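import Mathlib
import Cfsg.Agent.Lib.Helper12.PHyp.T2EDefs
import Cfsg.Agent.Lib.Helper94.Refl

/-!
# PHYP (S5974), regime [T2E], package [ASOLVE]: invariant hyperbolic `m`-spaces for an a-type
involution, from the block decomposition [ADEC], [GEOM2], [SUMPLUS] and [NDEVEN].
-/

set_option autoImplicit false

namespace Cfsg.Agent.Lib.Helper20.PHyp

open Cfsg.Agent.Lib.Helper23.OHyp Cfsg.Agent.Lib.Helper12.PHyp Module

universe u

theorem pkgASolve_of (hADec : PkgADec.{u}) (hG : PkgGeom2.{u}) (hSP : PkgSumPlus.{u})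
    (hE : PkgNdEven.{u}) : PkgASolve.{u} := by
  intro F _ _ ι _ _ Q x hStd V hVinv hVnd hA m hm
  obtain ⟨s2, V', hV'V, hV'fix, hV'nd, hfr, hWA⟩ := hADec F ι Q x hStd V hVinv hVnd hA
  obtain ⟨c, hc⟩ := hE F ι Q hStd.nondeg hStd.two V' hV'nd
  have hNdBot : Nd Q (⊥ : Submodule F (ι → F)) := by
    intro w hw hw0
    exact absurd ((Submodule.mem_bot F).mp hw) hw0
  have hPlBot : Plus Q (⊥ : Submodule F (ι → F)) := by
    refine ⟨⊥, le_rfl, ?_, by simp⟩
    intro w hw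
    rw [(Submodule.mem_bot F).mp hw]
    exact Cfsg.Agent.Lib.Helper94.Q_zero hStd.nondeg
  have glue : ∀ t : ℕ, t ≤ s2 → ∀ W0 : Submodule F (ι → F), W0 ≤ V' → Nd Q W0 → Plus Q W0 →
      4 * t + finrank F W0 = m → HypIn Q x V m := by
    intro t ht W0 hW0 hW0nd hW0pl hsum
    obtain ⟨WA, hWAV, hWAinv, hWAnd, hWApl, hWAfr, hWAperp⟩ := hWA t ht
    have hperp : Perp Q WA W0 := fun a ha b hb => hWAperp a ha b (hW0 hb)
    obtain ⟨h1, h2, h3⟩ := hSP F ι Q hStd.nondeg WA W0 hWAnd hW0nd hperp hWApl hW0pl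
    refine ⟨WA ⊔ W0, sup_le hWAV (hW0.trans hV'V), ?_, h1, h2, by rw [h3, hWAfr]; exact hsum⟩
    unfold Cfsg.Agent.Lib.Helper23.OHyp.Inv
    rw [Submodule.map_sup]
    apply sup_le_sup hWAinv
    rw [Submodule.map_le_iff_le_comap]
    intro w hw
    have hfix : (Matrix.toLin' x - 1) w = 0 := hV'fix (hW0 hw)
    have hfix' : Matrix.toLin' x w - w = 0 := hfix
    show Matrix.toLin' x w ∈ W0
    rw [sub_eq_zero.mp hfix']
    exact hw
  refine ⟨?_, ?_⟩
  · intro hm4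
    by_cases h : m / 4 ≤ s2
    · exact glue (m / 4) h ⊥ bot_le hNdBot hPlBot (by rw [finrank_bot]; omega)
    · have heven : Even (m - 4 * s2) := ⟨(m - 4 * s2) / 2, by omega⟩
      obtain ⟨W0, hW0, hW0nd, hW0pl, hW0fr⟩ :=
        hG F ι Q hStd.nondeg hStd.two V' hV'nd (m - 4 * s2) heven (by omega)
      exact glue s2 le_rfl W0 hW0 hW0nd hW0pl (by rw [hW0fr]; omega)
  · intro hm2
    by_cases hee0 : finrank F V' = 0
    · right
      left
      rw [hfr, hee0]
      omega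
    by_cases hee2 : finrank F V' = 2
    · by_cases hPl : Plus Q V'
      · left
        exact glue ((m - 2) / 4) (by omega) V' le_rfl hV'nd hPl (by rw [hee2]; omega)
      · right
        right
        obtain ⟨WA, -, -, -, hWApl, hWAfr, hWAperp⟩ := hWA s2 le_rfl
        obtain ⟨U, hU, hUts, hUf⟩ := hWApl
        exact ⟨V', U, hV'nd, hee2, hPl, hUts, fun a ha b hb => hWAperp a (hU ha) b hb,
          by omega⟩
    · left
      by_cases h : (m - 2) / 4 ≤ s2
      · obtain ⟨W0, hW0, hW0nd, hW0pl, hW0fr⟩ :=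
          hG F ι Q hStd.nondeg hStd.two V' hV'nd 2 ⟨1, rfl⟩ (by omega)
        exact glue ((m - 2) / 4) h W0 hW0 hW0nd hW0pl (by rw [hW0fr]; omega)
      · have heven : Even (m - 4 * s2) := ⟨(m - 4 * s2) / 2, by omega⟩
        obtain ⟨W0, hW0, hW0nd, hW0pl, hW0fr⟩ :=
          hG F ι Q hStd.nondeg hStd.two V' hV'nd (m - 4 * s2) heven (by omega)
        exact glue s2 le_rfl W0 hW0 hW0nd hW0pl (by rw [hW0fr]; omega)

end Cfsg.Agent.Lib.Helper20.PHyp
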